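import Groth.Agent.Lib.NumPoly18.FamilyEuler
import Groth.Agent.Lib.LiftFib11.HomLift
import Groth.Agent.Lib.HomShH7.LocFree
import Groth.Agent.Lib.DGen9.FibEuler
import Groth.Agent.Lib.VB17.Proper
import Groth.Agent.Lib.TensorMod.Invertible
import Groth.Agent.Lib.Trace12.Rank
import Mathlib.AlgebraicGeometry.Morphisms.FiniteType

/-!
# Stable bundles are separated in families
-/

set_option autoImplicit false
set_option linter.style.haveILetI false
set_option linter.unusedSectionVars false
set_option backward.isDefEq.respectTransparency false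
set_option backward.isDefEq.respectTransparency.types false
universe u

open CategoryTheory CategoryTheory.Limits AlgebraicGeometry TopologicalSpace

noncomputable section

namespace Groth.Agent.StableFam14

open Groth.Agent.LiftFib11 (homCmp isIso_homCmp secOfMor hev_secOfMor morOfSec morOfSec_app hev hev_ext)

variable {k : Type u} [Field k] {X : Scheme.{u}} [X.Over (Spec (CommRingCat.of k))]
  [IsProper (X ↘ Spec (CommRingCat.of k))]

/-- `H⁰` of the sheaf of homomorphisms is nonzero exactly when there is a nonzero homomorphism. -/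
theorem exists_ne_zero_iff {E F : X.Modules} (hK : Coh.IsCoh (M2.homMod E F)) :
    0 < Module.finrank k (Coh.HH X (M2.homMod E F) 0) ↔ ∃ φ : E ⟶ F, φ ≠ 0 := by
  haveI : Module.Finite k (Coh.HH X (M2.homMod E F) 0) := VB17.fin_of_proper _ hK 0
  rw [Module.finrank_pos_iff]
  constructor
  · intro h
    obtain ⟨x, hx⟩ := exists_ne (0 : Coh.HH X (M2.homMod E F) 0)
    refine ⟨morOfSec (U := ⊤) (fun _ => le_top) (CurveCoh17.hh0 _ x), fun h0 => hx ?_⟩
    refine (CurveCoh17.hh0 (M2.homMod E F)).injective ?_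
    rw [map_zero]
    refine hev_ext E F _ _ fun V hV s => ?_
    rw [← morOfSec_app (fun _ => le_top) (CurveCoh17.hh0 _ x) s, h0]
    rfl
  · rintro ⟨φ, hφ⟩
    refine ⟨(CurveCoh17.hh0 (M2.homMod E F)).symm (secOfMor φ ⊤), 0, fun h => hφ ?_⟩
    have h1 : secOfMor φ ⊤ = 0 := by
      have := congrArg (CurveCoh17.hh0 (M2.homMod E F)) h
      rwa [AddEquiv.apply_symm_apply, map_zero] at this
    refine Scheme.Modules.hom_ext _ _ fun V => ?_
    ext s
    rw [← hev_secOfMor φ (le_top : V ≤ ⊤) s, h1]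
    rfl

variable [IsAlgClosed k] {T : Scheme.{u}} [T.Over (Spec (CommRingCat.of k))] [IsIntegral T]
  [LocallyOfFiniteType (T ↘ Spec (CommRingCat.of k))]

/-- The slice at a point. -/
abbrev slice (t : Spec (CommRingCat.of k) ⟶ T) (ht : t ≫ (T ↘ Spec (CommRingCat.of k)) = 𝟙 _) :
    X ⟶ pullback (X ↘ Spec (CommRingCat.of k)) (T ↘ Spec (CommRingCat.of k)) :=
  Pic13.sliceAt k X (T ↘ Spec (CommRingCat.of k)) t ht

/-- The closed point of a rational point. -/
abbrev pt (t : Spec (CommRingCat.of k) ⟶ T) : T := t.base ⟨⊥, Ideal.isPrime_bot⟩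

/-- Stable bundles isomorphic on all slices but one are isomorphic on that slice. -/
theorem nonempty_iso (hdim : topologicalKrullDim X = 1) [IsIntegral X] [Smooth (X ↘ Spec (CommRingCat.of k))]
    (t₀ : Spec (CommRingCat.of k) ⟶ T) (ht₀ : t₀ ≫ (T ↘ Spec (CommRingCat.of k)) = 𝟙 _)
    (hne : ({pt t₀}ᶜ : Set T).Nonempty) {r : ℕ}
    (E E' : (pullback (X ↘ Spec (CommRingCat.of k)) (T ↘ Spec (CommRingCat.of k))).Modules)
    (hE : FlatMod.IsFinLocFreeOfRank r E) (hE' : FlatMod.IsFinLocFreeOfRank r E')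
    (hiso : ∀ (t : Spec (CommRingCat.of k) ⟶ T) (ht : t ≫ (T ↘ Spec (CommRingCat.of k)) = 𝟙 _), t ≠ t₀ →
      Nonempty ((Scheme.Modules.pullback (slice t ht)).obj E ≅ (Scheme.Modules.pullback (slice t ht)).obj E'))
    (hst : VB17.ST k ((Scheme.Modules.pullback (slice t₀ ht₀)).obj E) r)
    (hst' : VB17.ST k ((Scheme.Modules.pullback (slice t₀ ht₀)).obj E') r) :
    Nonempty ((Scheme.Modules.pullback (slice t₀ ht₀)).obj E ≅ (Scheme.Modules.pullback (slice t₀ ht₀)).obj E') := by
  let q := T ↘ Spec (CommRingCat.of k)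
  let P := pullback (X ↘ Spec (CommRingCat.of k)) q
  let f : P ⟶ T := pullback.snd (X ↘ Spec (CommRingCat.of k)) q
  haveI : IsLocallyNoetherian T := LocallyOfFiniteType.isLocallyNoetherian q
  haveI : JacobsonSpace T := LocallyOfFiniteType.jacobsonSpace q
  haveI : IsProper f := inferInstanceAs (IsProper (pullback.snd (X ↘ Spec (CommRingCat.of k)) q))
  haveI : Flat f := inferInstanceAs (Flat (pullback.snd (X ↘ Spec (CommRingCat.of k)) q))
  haveI : IsLocallyNoetherian P := LocallyOfFiniteType.isLocallyNoetherian f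
  haveI : IsLocallyNoetherian X := LocallyOfFiniteType.isLocallyNoetherian (X ↘ Spec (CommRingCat.of k))
  haveI : LocallyOfFinitePresentation f := LimH13.locallyOfFinitePresentation_of_noetherian f
  have hE0 := Trace12.isFinLocFree_of_rank hE
  have hE0' := Trace12.isFinLocFree_of_rank hE'
  have hK := HomShH7.isFinLocFree_homMod hE0 hE0'
  have hflat : ∀ {M : P.Modules}, FlatMod.IsFinLocFree M → FlatMod.IsFlatOver f M := fun hM =>
    DPerf.isFlatOver_of_isFlat f (KFlat.Sch.isFlat_of_isFinLocFree hM)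
  have hreg := VB17.regCurve' (k := k) (X := X) hdim
  have hr' : ∀ (t : Spec (CommRingCat.of k) ⟶ T) (ht : t ≫ q = 𝟙 _) {M : P.Modules},
      FlatMod.IsFinLocFreeOfRank r M → FlatMod.IsFinLocFreeOfRank r ((Scheme.Modules.pullback (slice t ht)).obj M) :=
    fun t ht M hM => M2.isFinLocFreeOfRank_pullback _ hM
  rcases Nat.eq_zero_or_pos r with hr0 | hr
  · subst hr0
    exact ⟨(VB17.isZero_of_rank_zero (hr' t₀ ht₀ hE)).iso (VB17.isZero_of_rank_zero (hr' t₀ ht₀ hE'))⟩
  -- the rank of homomorphisms on slices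
  have hrank : ∀ (t : Spec (CommRingCat.of k) ⟶ T) (ht : t ≫ q = 𝟙 _),
      0 < CohIII.fiberRank f (M2.homMod E E') 0 (pt t) ↔
        ∃ φ : (Scheme.Modules.pullback (slice t ht)).obj E ⟶ (Scheme.Modules.pullback (slice t ht)).obj E', φ ≠ 0 := by
    intro t ht
    rw [NumPoly18.fiberRank_eq_finrank f (CohFound.isCoh_of_isFinLocFree hK) (hflat hK) _ t
      (NumPoly18.isPullback_sliceAt q t ht) 0]
    haveI := isIso_homCmp (slice t ht) hE0 hE0'
    rw [(CurveCoh17.hequiv k (asIso (homCmp (slice t ht) E E')) 0).finrank_eq]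
    refine exists_ne_zero_iff ?_
    exact M1.isCoh_iff_isFP _ |>.2 (M1.isFP_of_isFinLocFree (HomShH7.isFinLocFree_homMod
      (Trace12.isFinLocFree_of_rank (hr' t ht hE)) (Trace12.isFinLocFree_of_rank (hr' t ht hE'))))
  have hcl : IsClosed {s : T | 0 < CohIII.fiberRank f (M2.homMod E E') 0 s} := by
    have h := FibEuler9.upperSemicontinuous_betti f (M2.homMod E E') (M1.isFP_of_isFinLocFree hK) (hflat hK) 0
    rw [show {s : T | 0 < CohIII.fiberRank f (M2.homMod E E') 0 s} =
      (fun s => PerfAux.betti f (M2.homMod E E') s 0) ⁻¹' Set.Ici 1 from rfl]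
    exact upperSemicontinuous_iff_isClosed_preimage.1 h 1
  have hclosedpt : IsClosed ({pt t₀} : Set T) := by
    obtain ⟨U, hU, hxU, -⟩ := exists_isAffineOpen_mem_and_subset (X := T) (x := pt t₀) (U := ⊤) trivial
    haveI : IsAffine (U : Scheme.{u}) := hU
    have hr : Set.range t₀ ⊆ Set.range U.ι := by
      rintro _ ⟨w, rfl⟩
      rw [Scheme.Opens.range_ι, Subsingleton.elim (α := PrimeSpectrum k) w ⟨⊥, Ideal.isPrime_bot⟩]
      exact hxU
    let l := IsOpenImmersion.lift U.ι t₀ hr
    have hl : l ≫ U.ι = t₀ := IsOpenImmersion.lift_fac _ _ _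
    haveI : IsClosedImmersion (l ≫ (U.ι ≫ q)) := by
      rw [reassoc_of% hl, ht₀]
      infer_instance
    haveI : IsClosedImmersion l := IsClosedImmersion.of_comp l (U.ι ≫ q)
    have hlc : IsLocallyClosed ({pt t₀} : Set T) := by
      have e : ({pt t₀} : Set T) = U.ι '' Set.range l := by
        rw [← Set.range_comp]
        refine Set.Subset.antisymm (by rintro _ rfl; exact ⟨⟨⊥, Ideal.isPrime_bot⟩, by
          rw [Function.comp_apply, ← Scheme.Hom.comp_apply, hl]⟩) ?_
        rintro _ ⟨w, rfl⟩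
        rw [Function.comp_apply, ← Scheme.Hom.comp_apply, hl, Subsingleton.elim (α := PrimeSpectrum k) w ⟨⊥, Ideal.isPrime_bot⟩]
        rfl
      rw [e]
      exact l.isClosedEmbedding.isClosed_range.isLocallyClosed.image U.ι.isOpenEmbedding.isInducing
        (by rw [Scheme.Opens.range_ι]; exact U.isOpen.isLocallyClosed)
    obtain ⟨z, hz, hzc⟩ := nonempty_inter_closedPoints (Set.singleton_nonempty (pt t₀)) hlc
    rwa [← (Set.mem_singleton_iff.1 hz)]
  have hdense : closure (({pt t₀}ᶜ : Set T) ∩ closedPoints T) = Set.univ := by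
    rw [JacobsonSpace.closure_inter_closedPoints_eq_closure hclosedpt.isOpen_compl.isLocallyClosed]
    exact (hclosedpt.isOpen_compl.dense hne).closure_eq
  have h₀ : 0 < CohIII.fiberRank f (M2.homMod E E') 0 (pt t₀) := by
    refine closure_minimal (fun s hs => ?_) hcl (hdense.ge (Set.mem_univ (pt t₀)))
    let t := pointOfClosedPoint q s hs.2
    have ht : t ≫ q = 𝟙 _ := pointOfClosedPoint_comp _ _ _
    have hts : pt t = s := pointOfClosedPoint_apply q s hs.2 _
    obtain ⟨e⟩ := hiso t ht fun h => hs.1 (hts.symm.trans (congrArg pt h))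
    show 0 < CohIII.fiberRank f (M2.homMod E E') 0 s
    rw [← hts, hrank t ht]
    refine ⟨e.hom, fun h0 => ?_⟩
    have hz : IsZero ((Scheme.Modules.pullback (slice t ht)).obj E) := by
      rw [IsZero.iff_id_eq_zero, ← e.hom_inv_id, h0, zero_comp]
    obtain ⟨x⟩ := (inferInstance : Nonempty X)
    have h1 := VB17.finrank_stalk (hr' t ht hE) x
    haveI : Subsingleton ((((Scheme.Modules.pullback (slice t ht)).obj E).presheaf.stalk x) : Type u) := by
      refine subsingleton_of_forall_eq 0 fun a => ?_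
      obtain ⟨V, hV, σ, rfl⟩ := TopCat.Presheaf.exists_germ_eq _ a
      have hσ : σ = 0 := by
        have h2 := congrArg (fun ψ => ψ.app V σ) (hz.eq_of_src (𝟙 _) 0)
        exact h2
      rw [hσ]
      exact map_zero _
    rw [Module.finrank_zero_of_subsingleton] at h1
    omega
  obtain ⟨φ, hφ⟩ := (hrank t₀ ht₀).1 h₀
  -- equal degrees
  have hdeg : Curv2.deg k X ((Scheme.Modules.pullback (slice t₀ ht₀)).obj E) r =
      Curv2.deg k X ((Scheme.Modules.pullback (slice t₀ ht₀)).obj E') r := by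
    obtain ⟨s, hs⟩ : (({pt t₀}ᶜ : Set T) ∩ closedPoints T).Nonempty :=
      nonempty_inter_closedPoints hne hclosedpt.isOpen_compl.isLocallyClosed
    let t := pointOfClosedPoint q s hs.2
    have ht : t ≫ q = 𝟙 _ := pointOfClosedPoint_comp _ _ _
    have hts : pt t = s := pointOfClosedPoint_apply q s hs.2 _
    obtain ⟨e⟩ := hiso t ht fun h => hs.1 (hts.symm.trans (congrArg pt h))
    haveI : ConnectedSpace T := inferInstance
    have key : ∀ {M : P.Modules}, FlatMod.IsFinLocFree M →
        Curv2.euler k X ((Scheme.Modules.pullback (slice t₀ ht₀)).obj M) =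
          Curv2.euler k X ((Scheme.Modules.pullback (slice t ht)).obj M) := fun {M} hM => by
      rw [← NumPoly18.eulerChar_eq_euler f (CohFound.isCoh_of_isFinLocFree hM) (hflat hM) _ t₀
        (NumPoly18.isPullback_sliceAt q t₀ ht₀),
        ← NumPoly18.eulerChar_eq_euler f (CohFound.isCoh_of_isFinLocFree hM) (hflat hM) _ t
        (NumPoly18.isPullback_sliceAt q t ht)]
      exact (FibEuler9.isLocallyConstant_eulerChar f M (M1.isFP_of_isFinLocFree hM) (hflat hM)).apply_eq_of_preconnectedSpace _ _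
    rw [Curv2.deg, Curv2.deg, key hE0, key hE0', CurveCoh17.euler_iso e]
  exact ⟨@asIso _ _ _ _ φ (VB17.isIso_of_st_st hreg hr hr (hr' t₀ ht₀ hE) (hr' t₀ ht₀ hE') hst hst'
    (by rw [hdeg]) φ hφ)⟩

end Groth.Agent.StableFam14
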